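import Groth.Agent.Lib.CIPres.FieldExt
import Groth.Agent.Lib.CMMor6.BaseChange
import Groth.Agent.Lib.SchPoints.AlgClosed
import Groth.Prelude.Def_CInt

/-!
# Complete intersection morphisms
-/

set_option autoImplicit false
set_option backward.isDefEq.respectTransparency false
set_option linter.style.haveILetI false

universe u

open CategoryTheory CategoryTheory.Limits AlgebraicGeometry IsLocalRing TensorProduct

namespace GrothLib.CIMor

open GrothLib
open GrothLib.CMMor6 (FibQuot)

instance isLocalRing_fibQuot {X S : Scheme.{u}} (f : X ⟶ S) (x : X) : IsLocalRing (FibQuot f x) := by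
  haveI : Nontrivial (FibQuot f x) := Ideal.Quotient.nontrivial_iff.2 (ne_top_of_le_ne_top
    (maximalIdeal.isMaximal _).ne_top (((local_hom_TFAE (f.stalkMap x).hom).out 0 2 rfl rfl).1 inferInstance))
  exact IsLocalRing.of_surjective' (Ideal.Quotient.mk _) Ideal.Quotient.mk_surjective

theorem isNoetherianRing_fibQuot_lft {X S : Scheme.{u}} (f : X ⟶ S) [LocallyOfFiniteType f] (x : X) :
    IsNoetherianRing (FibQuot f x) := by
  haveI : LocallyOfFiniteType (f.fiberToSpecResidueField (f x)) := MorphismProperty.pullback_snd _ _ ‹_›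
  haveI : IsLocallyNoetherian (f.fiber (f x)) :=
    LocallyOfFiniteType.isLocallyNoetherian (f.fiberToSpecResidueField (f x))
  exact CMMor6.isNoetherianRing_fibQuot f x

variable {X Y X' Y' : Scheme.{u}}

theorem ci_fiber_stalk_iff (f : X ⟶ Y) (s : Y) (w : f.fiber s) (x : X) (hw : f.fiberι s w = x)
    [IsNoetherianRing (FibQuot f x)] :
    Pi1.IsCompleteIntersection ((f.fiber s).presheaf.stalk w) ↔ Pi1.IsCompleteIntersection (FibQuot f x) := by
  obtain ⟨hsurj, hker⟩ := GrothLib.FibreFlat.fiberι_stalkMap' f s w x hw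
  let e : FibQuot f x ≃+* (f.fiber s).presheaf.stalk w :=
    (Ideal.quotEquivOfEq hker.symm).trans (RingHom.quotientKerEquivOfSurjective hsurj)
  haveI : IsNoetherianRing ((f.fiber s).presheaf.stalk w) := isNoetherianRing_of_ringEquiv _ e
  exact (CIPres.isCI_congr e).symm

theorem ci_stalk_spec (T : CommRingCat.{u}) [IsNoetherianRing T] (hT : CIPres.IsCIRing T) (q : Spec T) :
    Pi1.IsCompleteIntersection ((Spec T).presheaf.stalk q) := by
  letI : Algebra T ((Spec T).presheaf.stalk q) := StructureSheaf.stalkAlgebra T q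
  haveI : IsLocalization.AtPrime ((Spec T).presheaf.stalk q) q.asIdeal :=
    StructureSheaf.IsLocalization.to_stalk T q
  haveI : IsNoetherianRing ((Spec T).presheaf.stalk q) :=
    IsLocalization.isNoetherianRing q.asIdeal.primeCompl _ inferInstance
  exact (CIPres.isCI_congr (IsLocalization.algEquiv q.asIdeal.primeCompl (Localization.AtPrime q.asIdeal)
      ((Spec T).presheaf.stalk q)).toRingEquiv).1 (hT q.asIdeal)

/-- The two closed fibres in a tower of local rings. -/
theorem ci_fibre_tower {A B C : Type u} [CommRing A] [CommRing B] [CommRing C] [IsLocalRing A]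
    [IsLocalRing B] [IsLocalRing C] [Algebra A B] [Algebra B C] [Algebra A C] [IsScalarTower A B C]
    [IsLocalHom (algebraMap A B)] [IsLocalHom (algebraMap B C)] [Module.Flat B C]
    [IsNoetherianRing (B ⧸ (maximalIdeal A).map (algebraMap A B))]
    [IsNoetherianRing (C ⧸ (maximalIdeal A).map (algebraMap A C))]
    [IsLocalRing (B ⧸ (maximalIdeal A).map (algebraMap A B))]
    [IsLocalRing (C ⧸ (maximalIdeal A).map (algebraMap A C))]
    [IsLocalRing (C ⧸ (maximalIdeal B).map (algebraMap B C))]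
    [IsNoetherianRing (C ⧸ (maximalIdeal B).map (algebraMap B C))] :
    Pi1.IsCompleteIntersection (C ⧸ (maximalIdeal A).map (algebraMap A C)) ↔
      Pi1.IsCompleteIntersection (B ⧸ (maximalIdeal A).map (algebraMap A B)) ∧
        Pi1.IsCompleteIntersection (C ⧸ (maximalIdeal B).map (algebraMap B C)) := by
  let J := (maximalIdeal A).map (algebraMap A B)
  let K := J.map (algebraMap B C)
  have hK : K = (maximalIdeal A).map (algebraMap A C) := CMMor6.isScalarTower_quot _
  have hJ : J ≤ maximalIdeal B := ((local_hom_TFAE (algebraMap A B)).out 0 2 rfl rfl).1 inferInstance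
  have hKC : K ≤ maximalIdeal C := (Ideal.map_mono hJ).trans
    (((local_hom_TFAE (algebraMap B C)).out 0 2 rfl rfl).1 inferInstance)
  haveI := (Ideal.Quotient.nontrivial_iff (I := J)).2 (ne_top_of_le_ne_top (maximalIdeal.isMaximal B).ne_top hJ)
  haveI := (Ideal.Quotient.nontrivial_iff (I := K)).2 (ne_top_of_le_ne_top (maximalIdeal.isMaximal C).ne_top hKC)
  haveI : IsLocalRing (B ⧸ J) := IsLocalRing.of_surjective' (Ideal.Quotient.mk _) Ideal.Quotient.mk_surjective
  haveI : IsLocalRing (C ⧸ K) := IsLocalRing.of_surjective' (Ideal.Quotient.mk _) Ideal.Quotient.mk_surjective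
  haveI : IsLocalHom (Ideal.Quotient.mk J) := IsLocalHom.of_surjective _ Ideal.Quotient.mk_surjective
  haveI : IsNoetherianRing (C ⧸ K) := isNoetherianRing_of_ringEquiv _ (Ideal.quotEquivOfEq hK).symm
  haveI : IsLocalHom (Ideal.Quotient.mk K) := IsLocalHom.of_surjective _ Ideal.Quotient.mk_surjective
  haveI : IsLocalHom (algebraMap (B ⧸ J) (C ⧸ K)) := ⟨fun b hb => by
    obtain ⟨b, rfl⟩ := Ideal.Quotient.mk_surjective b
    exact ((isUnit_of_map_unit (algebraMap B C) b
      (isUnit_of_map_unit (Ideal.Quotient.mk K) (algebraMap B C b) hb))).map _⟩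
  haveI : Module.Flat (B ⧸ J) (C ⧸ K) := CMMor6.flat_quotient J
  haveI : Nontrivial ((C ⧸ K) ⧸ (maximalIdeal (B ⧸ J)).map (algebraMap (B ⧸ J) (C ⧸ K))) :=
    Ideal.Quotient.nontrivial_iff.2 (ne_top_of_le_ne_top (maximalIdeal.isMaximal _).ne_top
      (((local_hom_TFAE (algebraMap (B ⧸ J) (C ⧸ K))).out 0 2 rfl rfl).1 inferInstance))
  haveI : IsLocalRing ((C ⧸ K) ⧸ (maximalIdeal (B ⧸ J)).map (algebraMap (B ⧸ J) (C ⧸ K))) :=
    IsLocalRing.of_surjective' (Ideal.Quotient.mk _) Ideal.Quotient.mk_surjective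
  have h := CIPres.isCI_iff_of_flat (A := B ⧸ J) (B := C ⧸ K)
  have hm : (maximalIdeal (B ⧸ J)).map (algebraMap (B ⧸ J) (C ⧸ K)) =
      ((maximalIdeal B).map (algebraMap B C)).map (Ideal.Quotient.mk K) := by
    rw [← IsLocalRing.map_maximalIdeal_of_surjective (Ideal.Quotient.mk J) Ideal.Quotient.mk_surjective]
    exact ((maximalIdeal B).map_map (Ideal.Quotient.mk J) (algebraMap (B ⧸ J) (C ⧸ K))).trans
      ((maximalIdeal B).map_map (algebraMap B C) (Ideal.Quotient.mk K)).symm
  let e := (Ideal.quotEquivOfEq hm).trans (DoubleQuot.quotQuotEquivQuotOfLE (Ideal.map_mono (f := algebraMap B C) hJ))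
  let e₀ := Ideal.quotEquivOfEq hK
  constructor
  · intro hC
    obtain ⟨h1, h2⟩ := h.1 ((CIPres.isCI_congr e₀.symm).1 hC)
    exact ⟨h1, (CIPres.isCI_congr e).1 h2⟩
  · rintro ⟨h1, h2⟩
    exact (CIPres.isCI_congr e₀).1 (h.2 ⟨h1, (CIPres.isCI_congr e.symm).1 h2⟩)

/-- Field extensions with Noetherian base change do not affect the Cohen–Macaulay property of a local ring. -/
theorem ci_stalk_fieldExtension' {k K : Type u} [Field k] [Field K] (e : k →+* K)
    {W P : Scheme.{u}} {h : W ⟶ Spec (CommRingCat.of k)} {p₁ : P ⟶ W} {p₂ : P ⟶ Spec (CommRingCat.of K)}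
    (hP : IsPullback p₁ p₂ h (Spec.map (CommRingCat.ofHom e))) [IsLocallyNoetherian W] [IsLocallyNoetherian P]
    (z : P) (hT : letI := e.toAlgebra
      letI := (Spec.preimage (W.fromSpecResidueField (p₁ z) ≫ h)).hom.toAlgebra
      IsNoetherianRing (W.residueField (p₁ z) ⊗[k] K) ∧ CIPres.IsCIRing (W.residueField (p₁ z) ⊗[k] K)) :
    Pi1.IsCompleteIntersection (P.presheaf.stalk z) ↔
      Pi1.IsCompleteIntersection (W.presheaf.stalk (p₁ z)) := by
  haveI : Flat (Spec.map (CommRingCat.ofHom e)) := by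
    refine Flat.SpecMap_iff.mpr ?_
    letI := e.toAlgebra
    exact (inferInstance : Module.Flat k K)
  haveI : Flat p₁ := MorphismProperty.of_isPullback (P := @Flat) hP.flip ‹_›
  letI : Algebra (W.presheaf.stalk (p₁ z)) (P.presheaf.stalk z) := (p₁.stalkMap z).hom.toAlgebra
  haveI : IsLocalHom (algebraMap (W.presheaf.stalk (p₁ z)) (P.presheaf.stalk z)) :=
    inferInstanceAs (IsLocalHom (p₁.stalkMap z).hom)
  haveI : Module.Flat (W.presheaf.stalk (p₁ z)) (P.presheaf.stalk z) := Flat.stalkMap p₁ z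
  haveI : IsLocalRing (P.presheaf.stalk z ⧸ (maximalIdeal (W.presheaf.stalk (p₁ z))).map
      (algebraMap (W.presheaf.stalk (p₁ z)) (P.presheaf.stalk z))) := isLocalRing_fibQuot p₁ z
  rw [CIPres.isCI_iff_of_flat (A := W.presheaf.stalk (p₁ z))]
  refine and_iff_left ?_
  haveI : IsNoetherianRing (FibQuot p₁ z) := inferInstance
  show Pi1.IsCompleteIntersection (FibQuot p₁ z)
  rw [← ci_fiber_stalk_iff p₁ (p₁ z) (p₁.asFiber z) z (p₁.fiberι_asFiber z)]
  let L := W.residueField (p₁ z)
  let ψ : CommRingCat.of k ⟶ L := Spec.preimage (W.fromSpecResidueField (p₁ z) ≫ h)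
  letI : Algebra k L := ψ.hom.toAlgebra
  letI : Algebra k K := e.toAlgebra
  obtain ⟨hTN, hTC⟩ : IsNoetherianRing (L ⊗[k] K) ∧ CIPres.IsCIRing (L ⊗[k] K) := hT
  have hsq : IsPullback (p₁.fiberToSpecResidueField (p₁ z)) (p₁.fiberι (p₁ z) ≫ p₂)
      (Spec.map ψ) (Spec.map (CommRingCat.ofHom e)) := by
    rw [Spec.map_preimage]
    exact (IsPullback.of_hasPullback p₁ (W.fromSpecResidueField (p₁ z))).flip.paste_vert hP
  let E : p₁.fiber (p₁ z) ≅ Spec (CommRingCat.of (L ⊗[k] K)) :=
    hsq.isoPullback ≪≫ pullbackSpecIso k L K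
  haveI : IsLocallyNoetherian (p₁.fiber (p₁ z)) := isLocallyNoetherian_of_isOpenImmersion E.hom
  exact (CIPres.isCI_congr (asIso (E.hom.stalkMap (p₁.asFiber z))).commRingCatIsoToRingEquiv).1
    (ci_stalk_spec (CommRingCat.of (L ⊗[k] K)) hTC (E.hom (p₁.asFiber z)))

theorem ci_stalk_fieldExtension_finiteType {k K : Type u} [Field k] [Field K] (e : k →+* K)
    {W P : Scheme.{u}} {h : W ⟶ Spec (CommRingCat.of k)} {p₁ : P ⟶ W} {p₂ : P ⟶ Spec (CommRingCat.of K)}
    (hP : IsPullback p₁ p₂ h (Spec.map (CommRingCat.ofHom e))) [LocallyOfFiniteType h] (z : P) :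
    Pi1.IsCompleteIntersection (P.presheaf.stalk z) ↔
      Pi1.IsCompleteIntersection (W.presheaf.stalk (p₁ z)) := by
  haveI : LocallyOfFiniteType p₂ := MorphismProperty.of_isPullback (P := @LocallyOfFiniteType) hP ‹_›
  haveI : IsLocallyNoetherian W := LocallyOfFiniteType.isLocallyNoetherian h
  haveI : IsLocallyNoetherian P := LocallyOfFiniteType.isLocallyNoetherian p₂
  letI := e.toAlgebra
  let L := W.residueField (p₁ z)
  let ψ : CommRingCat.of k ⟶ L := Spec.preimage (W.fromSpecResidueField (p₁ z) ≫ h)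
  letI : Algebra k L := ψ.hom.toAlgebra
  haveI : Algebra.EssFiniteType k L :=
    RingHom.essFiniteType_algebraMap.mp (GrothLib.SchPoints.essFiniteType_residueField h (p₁ z))
  haveI : IsNoetherianRing (L ⊗[k] K) :=
    haveI : IsNoetherianRing (K ⊗[k] L) := Algebra.EssFiniteType.isNoetherianRing K _
    isNoetherianRing_of_ringEquiv _ (Algebra.TensorProduct.comm k K L).toRingEquiv
  exact ci_stalk_fieldExtension' e hP z (CIPres.isCIRing_tensor_fg (IntermediateField.fg_top_iff.2 inferInstance)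
    (CIPres.isCIRing_of_isRegularRing K))

theorem ci_fibQuot_baseChange_iff {f : X ⟶ Y} [LocallyOfFiniteType f]
    {f' : X' ⟶ Y'} {g' : X' ⟶ X} {g : Y' ⟶ Y} (hc : IsPullback g' f' f g) (x' : X') :
    Pi1.IsCompleteIntersection (FibQuot f' x') ↔
      Pi1.IsCompleteIntersection (FibQuot f (g' x')) := by
  haveI : LocallyOfFiniteType f' := MorphismProperty.of_isPullback (P := @LocallyOfFiniteType) hc ‹_›
  haveI := isNoetherianRing_fibQuot_lft f' x'
  haveI := isNoetherianRing_fibQuot_lft f (g' x')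
  let y' := f' x'
  let π := pullback.map f' (Y'.fromSpecResidueField y') f (Y.fromSpecResidueField (g y')) g'
    (Spec.map (g.residueFieldMap y')) g hc.w.symm (by simp)
  have hπ := isPullback_fiberToSpecResidueField_of_isPullback hc y'
  haveI : LocallyOfFiniteType (f.fiberToSpecResidueField (g y')) := MorphismProperty.pullback_snd _ _ ‹_›
  have h1 := ci_stalk_fieldExtension_finiteType (g.residueFieldMap y').hom hπ (f'.asFiber x')
  rw [← ci_fiber_stalk_iff f' y' (f'.asFiber x') x' (f'.fiberι_asFiber x')]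
  refine h1.trans (ci_fiber_stalk_iff f (g y') _ (g' x') ?_)
  show (π ≫ pullback.fst f (Y.fromSpecResidueField (g y'))) (f'.asFiber x') = g' x'
  rw [pullback.lift_fst, Scheme.Hom.comp_apply]
  exact congrArg g' (f'.fiberι_asFiber x')

theorem ci_fibQuot_comp_iff {Z : Scheme.{u}} (f : X ⟶ Y) (g : Y ⟶ Z) [Flat f] [LocallyOfFiniteType f]
    [LocallyOfFiniteType g] (x : X) :
    Pi1.IsCompleteIntersection (FibQuot (f ≫ g) x) ↔
      Pi1.IsCompleteIntersection (FibQuot g (f x)) ∧ Pi1.IsCompleteIntersection (FibQuot f x) := by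
  have hcomp : (f ≫ g).stalkMap x = g.stalkMap (f x) ≫ f.stalkMap x := Scheme.Hom.stalkMap_comp f g x
  letI : Algebra (Z.presheaf.stalk (g (f x))) (Y.presheaf.stalk (f x)) := (g.stalkMap (f x)).hom.toAlgebra
  letI : Algebra (Y.presheaf.stalk (f x)) (X.presheaf.stalk x) := (f.stalkMap x).hom.toAlgebra
  letI : Algebra (Z.presheaf.stalk (g (f x))) (X.presheaf.stalk x) := ((f ≫ g).stalkMap x).hom.toAlgebra
  haveI : IsScalarTower (Z.presheaf.stalk (g (f x))) (Y.presheaf.stalk (f x)) (X.presheaf.stalk x) :=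
    IsScalarTower.of_algebraMap_eq' (congrArg CommRingCat.Hom.hom hcomp)
  haveI : IsLocalHom (algebraMap (Z.presheaf.stalk (g (f x))) (Y.presheaf.stalk (f x))) :=
    inferInstanceAs (IsLocalHom (g.stalkMap (f x)).hom)
  haveI : IsLocalHom (algebraMap (Y.presheaf.stalk (f x)) (X.presheaf.stalk x)) :=
    inferInstanceAs (IsLocalHom (f.stalkMap x).hom)
  haveI : Module.Flat (Y.presheaf.stalk (f x)) (X.presheaf.stalk x) := Flat.stalkMap f x
  haveI : IsNoetherianRing (Y.presheaf.stalk (f x) ⧸ (maximalIdeal (Z.presheaf.stalk (g (f x)))).map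
      (algebraMap (Z.presheaf.stalk (g (f x))) (Y.presheaf.stalk (f x)))) := isNoetherianRing_fibQuot_lft g (f x)
  haveI : IsNoetherianRing (X.presheaf.stalk x ⧸ (maximalIdeal (Y.presheaf.stalk (f x))).map
      (algebraMap (Y.presheaf.stalk (f x)) (X.presheaf.stalk x))) := isNoetherianRing_fibQuot_lft f x
  haveI : IsNoetherianRing (X.presheaf.stalk x ⧸ (maximalIdeal (Z.presheaf.stalk (g (f x)))).map
      (algebraMap (Z.presheaf.stalk (g (f x))) (X.presheaf.stalk x))) := isNoetherianRing_fibQuot_lft (f ≫ g) x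
  haveI : IsLocalRing (Y.presheaf.stalk (f x) ⧸ (maximalIdeal (Z.presheaf.stalk (g (f x)))).map
      (algebraMap (Z.presheaf.stalk (g (f x))) (Y.presheaf.stalk (f x)))) := isLocalRing_fibQuot g (f x)
  haveI : IsLocalRing (X.presheaf.stalk x ⧸ (maximalIdeal (Y.presheaf.stalk (f x))).map
      (algebraMap (Y.presheaf.stalk (f x)) (X.presheaf.stalk x))) := isLocalRing_fibQuot f x
  haveI : IsLocalRing (X.presheaf.stalk x ⧸ (maximalIdeal (Z.presheaf.stalk (g (f x)))).map
      (algebraMap (Z.presheaf.stalk (g (f x))) (X.presheaf.stalk x))) := isLocalRing_fibQuot (f ≫ g) x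
  exact ci_fibre_tower (A := Z.presheaf.stalk (g (f x))) (B := Y.presheaf.stalk (f x))
    (C := X.presheaf.stalk x)

theorem ci_fiberStalk_iff (f : X ⟶ Y) [LocallyOfFiniteType f] (x : X) :
    Pi1.IsCompleteIntersection (CInt.fiberStalk f x) ↔ Pi1.IsCompleteIntersection (FibQuot f x) :=
  haveI := isNoetherianRing_fibQuot_lft f x
  ci_fiber_stalk_iff f (f x) (f.asFiber x) x (f.fiberι_asFiber x)

theorem ci_fiberStalk_baseChange_iff {f : X ⟶ Y} [LocallyOfFiniteType f] {f' : X' ⟶ Y'} {g' : X' ⟶ X}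
    {g : Y' ⟶ Y} (hc : IsPullback g' f' f g) (x' : X') :
    Pi1.IsCompleteIntersection (CInt.fiberStalk f' x') ↔
      Pi1.IsCompleteIntersection (CInt.fiberStalk f (g' x')) := by
  haveI : LocallyOfFiniteType f' := MorphismProperty.of_isPullback (P := @LocallyOfFiniteType) hc ‹_›
  rw [ci_fiberStalk_iff, ci_fiberStalk_iff]
  exact ci_fibQuot_baseChange_iff hc x'

end GrothLib.CIMor
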