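import Groth.Agent.Lib.CIMor.Immersion
import Groth.Agent.Lib.CIPres.TransReg
import Groth.Agent.Lib.CotTangent.Scheme
import Groth.Agent.Lib.AffUnion.Gener
import Groth.Agent.Lib.RegLoc.Basic
import Groth.Agent.Lib.DimCut.FibreStalk

/-!
# The fibre dimension bounds the codimension of a smooth closed subscheme
-/

set_option autoImplicit false
set_option backward.isDefEq.respectTransparency false
set_option linter.style.haveILetI false

universe u

open CategoryTheory CategoryTheory.Limits AlgebraicGeometry IsLocalRing RingTheory.Sequence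

namespace GrothLib.CIMor

open GrothLib
open GrothLib.CMMor6 (FibQuot)

theorem isRegularLocalRing_fibQuot {X S : Scheme.{u}} (f : X ⟶ S) [Smooth f] (x : X) :
    IsRegularLocalRing (FibQuot f x) := by
  haveI : Smooth (f.fiberToSpecResidueField (f x)) := MorphismProperty.pullback_snd _ _ ‹_›
  haveI : IsRegularLocalRing ((f.fiber (f x)).presheaf.stalk (f.asFiber x)) :=
    CotTangent.isRegularLocalRing_stalk (k := S.residueField (f x)) (f.fiberToSpecResidueField (f x)) _
  obtain ⟨e⟩ := CMMor6.nonempty_fibQuot_equiv f x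
  exact IsRegularLocalRing.of_ringEquiv (R := (f.fiber (f x)).presheaf.stalk (f.asFiber x)) e.symm

/-- An ideal with flat quotient and CI fibre in a flat algebra with regular fibre lies in a prime of small height. -/
theorem exists_prime_height_le {A C : Type u} [CommRing A] [IsLocalRing A] [CommRing C] [IsLocalRing C]
    [IsNoetherianRing A] [IsNoetherianRing C] [Algebra A C] [IsLocalHom (algebraMap A C)] [Module.Flat A C]
    [IsRegularLocalRing (EGA4.FibRing A C)] (J : Ideal C) (hJ : J ≠ ⊤) [IsLocalRing (EGA4.FibRing A (C ⧸ J))]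
    [Module.Flat A (C ⧸ J)] (hci : Pi1.IsCompleteIntersection (EGA4.FibRing A (C ⧸ J))) :
    ∃ P : Ideal C, P.IsPrime ∧ J ≤ P ∧ (P.height : WithBot ℕ∞) ≤ ringKrullDim (EGA4.FibRing A C) := by
  classical
  obtain ⟨rs, hrs, htr⟩ := (CIPres.exists_isTransRegularSeq_iff J hJ).mpr ⟨inferInstance, hci⟩
  obtain ⟨P, hP⟩ := Ideal.nonempty_minimalPrimes hJ
  haveI := hP.1.1
  refine ⟨P, inferInstance, hP.1.2, ?_⟩
  have h1 : P.height ≤ (rs.length : ℕ∞) := by
    refine (Ideal.height_le_spanRank_toENat_of_mem_minimalPrimes _ _ hP).trans ?_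
    rw [Submodule.fg_iff_spanRank_eq_spanFinrank.mpr (IsNoetherian.noetherian J), map_natCast, Nat.cast_le]
    have := CIPres.spanFinrank_le_card rs.get
    rw [Set.range_list_get, Fintype.card_fin] at this
    exact hrs ▸ this
  have hne : Ideal.ofList (rs.map (Ideal.Quotient.mk (EGA4.mB A C))) ≠ ⊤ := by
    rw [← Ideal.map_ofList, hrs]
    refine ne_top_of_le_ne_top (maximalIdeal.isMaximal (EGA4.FibRing A C)).ne_top ?_
    rw [← GrothLib.RegLoc.map_maximalIdeal_quotient (EGA4.mB A C)]
    exact Ideal.map_mono (le_maximalIdeal hJ)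
  have hreg : IsRegular (EGA4.FibRing A C) (rs.map (Ideal.Quotient.mk (EGA4.mB A C))) :=
    ⟨CIPres.fib_regular_of_isTransRegularSeq rs htr, fun h => hne (by rwa [smul_eq_mul, Ideal.mul_top, eq_comm] at h)⟩
  have h2 := ringKrullDim_add_length_eq_ringKrullDim_of_isRegular _ hreg
  rw [List.length_map] at h2
  refine le_trans (WithBot.coe_le_coe.mpr h1) ?_
  rw [← h2]
  haveI : Nontrivial (EGA4.FibRing A C ⧸ Ideal.ofList (rs.map (Ideal.Quotient.mk (EGA4.mB A C)))) :=
    Ideal.Quotient.nontrivial_iff.mpr hne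
  exact le_add_of_nonneg_left ringKrullDim_nonneg_of_nontrivial

theorem exists_stalk_dim_le {X Y S : Scheme.{u}} [IsLocallyNoetherian X] [IsLocallyNoetherian S] (f : X ⟶ S)
    [Smooth f] (i : Y ⟶ X) [IsClosedImmersion i] [Smooth (i ≫ f)] (y : Y) :
    ∃ y₁ : Y, ringKrullDim (X.presheaf.stalk (i y₁)) ≤ ringKrullDim (CInt.fiberStalk f (i y)) := by
  let A := S.presheaf.stalk (f (i y))
  let C := X.presheaf.stalk (i y)
  letI : Algebra A C := (f.stalkMap (i y)).hom.toAlgebra
  haveI : IsLocalHom (algebraMap A C) := inferInstanceAs (IsLocalHom (f.stalkMap (i y)).hom)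
  haveI : Module.Flat A C := Flat.stalkMap f (i y)
  haveI : IsRegularLocalRing (EGA4.FibRing A C) := isRegularLocalRing_fibQuot f (i y)
  let J : Ideal C := RingHom.ker (i.stalkMap y).hom
  have hJ : J ≠ ⊤ := RingHom.ker_ne_top _
  haveI : Module.Flat A (C ⧸ J) := RingHom.flat_algebraMap_iff.mp (RelReg.flat_quot_ker_stalkMap f i y)
  let eJ : C ⧸ J ≃+* Y.presheaf.stalk y := RingHom.quotientKerEquivOfSurjective (i.stalkMap_surjective y)
  let e : EGA4.FibRing A (C ⧸ J) ≃+* FibQuot (i ≫ f) y :=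
    Ideal.quotientEquiv _ _ eJ (by
      show _ = ((maximalIdeal A).map (algebraMap A (C ⧸ J))).map (eJ : C ⧸ J →+* Y.presheaf.stalk y)
      rw [Ideal.map_map]
      refine congrArg (Ideal.map · _) ?_
      rw [Scheme.Hom.stalkMap_comp]
      rfl)
  haveI : IsLocalRing (EGA4.FibRing A (C ⧸ J)) := e.symm.isLocalRing
  haveI := isNoetherianRing_fibQuot_lft (i ≫ f) y
  haveI : IsNoetherianRing (EGA4.FibRing A (C ⧸ J)) := isNoetherianRing_of_ringEquiv _ e.symm
  haveI := isRegularLocalRing_fibQuot (i ≫ f) y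
  obtain ⟨P, hP, hJP, hh⟩ := exists_prime_height_le (A := A) J hJ ((CIPres.isCI_congr e).mpr (CIPres.isCI_of_regular _))
  let q : Spec C := ⟨P, hP⟩
  -- the generization lies on the subscheme
  have hrange : X.fromSpecStalk (i y) q ∈ Set.range i := by
    have hq : q ∈ Set.range (Spec.map (i.stalkMap y)) := by
      have h : q ∈ Set.range (PrimeSpectrum.comap (i.stalkMap y).hom) := by
        rw [range_comap_of_surjective _ _ (i.stalkMap_surjective y)]
        exact hJP
      exact h
    obtain ⟨r, hr⟩ := hq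
    refine ⟨Y.fromSpecStalk y r, ?_⟩
    rw [← hr, ← Scheme.Hom.comp_apply, ← Scheme.Hom.comp_apply, Scheme.SpecMap_stalkMap_fromSpecStalk]
  obtain ⟨y₁, hy₁⟩ := hrange
  refine ⟨y₁, ?_⟩
  rw [hy₁]
  haveI := AffUnion.isIso_stalkMap_fromSpecStalk X (i y) q
  letI : Algebra C ((Spec C).presheaf.stalk q) := StructureSheaf.stalkAlgebra C q
  haveI : IsLocalization.AtPrime ((Spec C).presheaf.stalk q) P := StructureSheaf.IsLocalization.to_stalk C q
  rw [ringKrullDim_eq_of_ringEquiv (asIso ((X.fromSpecStalk (i y)).stalkMap q)).commRingCatIsoToRingEquiv,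
    IsLocalization.AtPrime.ringKrullDim_eq_height P ((Spec C).presheaf.stalk q)]
  obtain ⟨e'⟩ := CMMor6.nonempty_fibQuot_equiv f (i y)
  exact hh.trans (ringKrullDim_eq_of_ringEquiv e').le

end GrothLib.CIMor
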